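/-
The local group without planes: the natural module as coordinates of `adj D x`.

Main definitions: `LM D x B S`.
Main results: `Central.exists_lm`, `LM.exists_at`, `Central.exists_missed`, `CT.perp_one`.
-/
import Cfsg.Agent.Lib.FischerMain.Setting

set_option autoImplicit false

namespace Cfsg.Agent.FischerMain

open Cfsg Cfsg.Agent.ThreeTransRank Cfsg.Agent.ThreeTrans

universe u

variable {G : Type u} [Group G] {D : Set G}

theorem z2_eq_of_iff {a b : ZMod 2} (h : a = 0 ↔ b = 0) : a = b := by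
  revert h a b; decide

theorem CT.perp_one {V : Type*} [AddCommGroup V] [Module (ZMod 2) V] {B : LinearMap.BilinForm (ZMod 2) V}
    {S : Set V} (h : CT B S) {u v : V} (hv : v ≠ 0) (hu : ∀ y, B v y = 0 → B u y = 0) : u = 0 ∨ u = v := by
  obtain ⟨s, -, hs⟩ := h.exists_link hv
  rw [h.symm] at hs
  have key : ∀ y, B u y = B u s * B v y := by
    intro y
    rcases z2_cases (B v y) with e | e
    · rw [hu y e, e, mul_zero]
    · have := hu (y + s) (by rw [map_add, e, hs]; decide)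
      rw [map_add] at this
      rw [e, mul_one]
      exact CharTwo.add_eq_zero.1 this
  rcases z2_cases (B u s) with e | e
  · exact .inl (h.nondeg u fun y => by rw [key, e, zero_mul])
  · refine .inr (eq_of_vadd (h.nondeg _ fun y => ?_))
    rw [map_add, LinearMap.add_apply, key, e, one_mul, CharTwo.add_self_eq_zero]

/-- The members commuting with `x` as a cotriangular set of a symplectic space. -/
structure LM (D : Set G) (x : G) {V : Type*} [AddCommGroup V] [Module (ZMod 2) V]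
    (B : LinearMap.BilinForm (ZMod 2) V) (S : Set V) where
  /-- the vector of a member -/
  φ : G → V
  mem : ∀ a ∈ adj D x, φ a ∈ S
  surj : ∀ y ∈ S, ∃ a ∈ adj D x, φ a = y
  inj : Set.InjOn φ (adj D x)
  comm : ∀ a ∈ adj D x, ∀ b ∈ adj D x, Commute a b ↔ B (φ a) (φ b) = 0
  line : ∀ a ∈ adj D x, ∀ b ∈ adj D x, ¬ Commute a b → φ (a * b * a) = φ a + φ b

namespace LM

variable {V : Type*} [AddCommGroup V] [Module (ZMod 2) V] {B : LinearMap.BilinForm (ZMod 2) V} {S : Set V}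
variable {x : G}

theorem one_of_not_commute (m : LM D x B S) {a b : G} (ha : a ∈ adj D x) (hb : b ∈ adj D x)
    (hab : ¬ Commute a b) : B (m.φ a) (m.φ b) = 1 :=
  z2_eq_one fun e => hab ((m.comm a ha b hb).2 e)

theorem zero_of_commute (m : LM D x B S) {a b : G} (ha : a ∈ adj D x) (hb : b ∈ adj D x)
    (hab : Commute a b) : B (m.φ a) (m.φ b) = 0 :=
  (m.comm a ha b hb).1 hab

/-- The model at a conjugate. -/
def map (h : Base D) (m : LM D x B S) (g : G) : LM D (g * x * g⁻¹) B S where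
  φ y := m.φ (g⁻¹ * y * g)
  mem a ha := m.mem _ (by rwa [conj_adj h.conj] at ha)
  surj y hy := by
    obtain ⟨a, ha, e⟩ := m.surj y hy
    exact ⟨g * a * g⁻¹, (conj_adj_iff h.conj g).2 ha, by
      rw [show g⁻¹ * (g * a * g⁻¹) * g = a by group, e]⟩
  inj a ha b hb e := by
    rw [conj_adj h.conj] at ha hb
    have := m.inj ha hb e
    exact mul_left_cancel (mul_right_cancel this)
  comm a ha b hb := by
    rw [conj_adj h.conj] at ha hb
    rw [← m.comm _ ha _ hb]
    simpa using (commute_conj_iff g⁻¹ (a := a) (b := b)).symm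
  line a ha b hb hab := by
    rw [conj_adj h.conj] at ha hb
    rw [← m.line _ ha _ hb fun e => hab ((commute_conj_iff g⁻¹).1 (by simpa using e))]
    group

/-- The same model at any member. -/
theorem exists_at (h : Base D) (m : LM D x B S) (hx : x ∈ D) {v : G} (hv : v ∈ D) :
    Nonempty (LM D v B S) := by
  obtain ⟨g, rfl⟩ := class_conj h.cls hx hv
  exact ⟨m.map h g⟩

end LM

variable [Finite G] {x : G}

/-- The natural module of the local group gives a model. -/
theorem Central.exists_lm (h : Central D) (hx : x ∈ D) {V : Type u} [AddCommGroup V] [Module (ZMod 2) V]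
    (m : SpModel (locQSet D x) V) :
    (m.vec '' locQSet D x).Nonempty ∧ Nonempty (LM D x m.B (m.vec '' locQSet D x)) := by
  classical
  have hb := h.base_local hx
  let φ : G → V := fun a => if ha : a ∈ Loc D x then m.vec (toQ ↥(Loc D x) ⟨a, ha⟩) else 0
  have hφ : ∀ a (ha : a ∈ adj D x),
      φ a = m.vec (toQ ↥(Loc D x) ⟨a, Subgroup.subset_closure ha⟩) := fun a ha =>
    dif_pos (Subgroup.subset_closure ha)
  have hmem : ∀ a (ha : a ∈ adj D x), toQ ↥(Loc D x) ⟨a, Subgroup.subset_closure ha⟩ ∈ locQSet D x :=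
    fun a ha => ⟨_, ha, rfl⟩
  refine ⟨?_, ⟨⟨φ, fun a ha => ⟨_, hmem a ha, (hφ a ha).symm⟩, ?_, ?_, ?_, ?_⟩⟩⟩
  · obtain ⟨a, ha⟩ := h.ne x hx
    exact ⟨_, _, hmem a ha, rfl⟩
  · rintro _ ⟨_, ⟨⟨a, ha'⟩, ha, rfl⟩, rfl⟩
    exact ⟨a, ha, hφ a ha⟩
  · intro a ha b hb' e
    rw [hφ a ha, hφ b hb'] at e
    exact h.lift_eq hx ha hb' (m.vec_inj (hmem a ha) (hmem b hb') e)
  · intro a ha b hb'
    rw [← h.lift_comm hx ha hb', m.comm_iff _ (hmem a ha) _ (hmem b hb'), hφ a ha, hφ b hb']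
  · intro a ha b hb' hab
    set A := toQ ↥(Loc D x) ⟨a, Subgroup.subset_closure ha⟩
    set C := toQ ↥(Loc D x) ⟨b, Subgroup.subset_closure hb'⟩
    have e : toQ ↥(Loc D x) ⟨a * b * a, Subgroup.subset_closure (adj_conj_mem h.toBase ha hb')⟩ = A * C * A⁻¹ := by
      rw [inv_eq hb.set (hmem a ha)]
      show toQ ↥(Loc D x) (⟨a, Subgroup.subset_closure ha⟩ * ⟨b, Subgroup.subset_closure hb'⟩ *
        ⟨a, Subgroup.subset_closure ha⟩) = _
      rw [map_mul, map_mul]
    have hB : m.B (m.vec A) (m.vec C) = 1 := z2_eq_one fun e' =>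
      hab ((h.lift_comm hx ha hb').1 ((m.comm_iff _ (hmem a ha) _ (hmem b hb')).2 e'))
    rw [hφ _ (adj_conj_mem h.toBase ha hb'), e, ← m.ρ_vec A C (hmem b hb'), m.ρ_apply A (hmem a ha), hB,
      one_smul, hφ a ha, hφ b hb', add_comm]

/-- A plane gives a line missing the common members of a noncommuting pair. -/
theorem Central.exists_missed (h : Central D) (hx : x ∈ D) (hp : NoPlane (locQSet D x))
    (hpl : ¬ NoPlane D) :
    ∃ z ∈ nonc D x, ∃ a ∈ adj D x, ∃ b ∈ adj D x,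
      ¬ Commute a b ∧ ¬ Commute z a ∧ ¬ Commute z b ∧ ¬ Commute z (a * b * a) := by
  simp only [NoPlane, not_forall] at hpl
  obtain ⟨a, ha, b, hb, hab, e, he, hea, heb, hec⟩ := hpl
  obtain ⟨x0, hx0⟩ := h.toBase.common_nonempty h.conn ha hb hab
  obtain ⟨g, rfl⟩ := class_conj h.cls hx0.1.1 hx
  have hax : g * a * g⁻¹ ∈ adj D (g * x0 * g⁻¹) :=
    (conj_adj_iff h.conj g).2 (mem_adj_symm ha hx0.1)
  have hbx : g * b * g⁻¹ ∈ adj D (g * x0 * g⁻¹) :=
    (conj_adj_iff h.conj g).2 (mem_adj_symm hb hx0.2)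
  have hab' : ¬ Commute (g * a * g⁻¹) (g * b * g⁻¹) := fun c => hab ((commute_conj_iff g).1 c)
  have hea' : ¬ Commute (g * e * g⁻¹) (g * a * g⁻¹) := fun c => hea ((commute_conj_iff g).1 c)
  have heb' : ¬ Commute (g * e * g⁻¹) (g * b * g⁻¹) := fun c => heb ((commute_conj_iff g).1 c)
  have hec' : ¬ Commute (g * e * g⁻¹) (g * a * g⁻¹ * (g * b * g⁻¹) * (g * a * g⁻¹)) := fun c => hec (by
    rw [show g * a * g⁻¹ * (g * b * g⁻¹) * (g * a * g⁻¹) = g * (a * b * a) * g⁻¹ by group] at c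
    exact (commute_conj_iff g).1 c)
  refine ⟨g * e * g⁻¹, ⟨h.conj g e he, fun hc => ?_⟩, _, hax, _, hbx, hab', hea', heb', hec'⟩
  have hex : g * e * g⁻¹ ∈ adj D (g * x0 * g⁻¹) :=
    ⟨h.conj g e he, fun e' => hea' (by rw [e']; exact hax.2.2), hc⟩
  refine hec' ((h.lift_comm hx hex (adj_conj_mem h.toBase hax hbx)).1 ?_)
  exact hp _ ⟨_, hax, rfl⟩ _ ⟨_, hbx, rfl⟩ (fun c => hab' ((h.lift_comm hx hax hbx).1 c))
    _ ⟨_, hex, rfl⟩ (fun c => hea' ((h.lift_comm hx hex hax).1 c))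
    (fun c => heb' ((h.lift_comm hx hex hbx).1 c))

omit [Finite G] in
/-- The pair `x`, `z` seen from a member commuting with both. -/
theorem mem_adj_pair (hx : x ∈ D) {z v : G} (hz : z ∈ nonc D x) (hv : v ∈ adj D x) (hzv : Commute z v) :
    x ∈ adj D v ∧ z ∈ adj D v :=
  ⟨mem_adj_symm hx hv, hz.1, fun e => hz.2 (e ▸ hv.2.2), hzv.symm⟩

end Cfsg.Agent.FischerMain
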