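/-
The local group without planes: all non-zero vectors are excluded.

Main results: `LM.line_two`, `LM.not_all`.
-/
import Cfsg.Agent.Lib.FischerMain.Excl.LocalModel

set_option autoImplicit false

namespace Cfsg.Agent.FischerMain

open Cfsg Cfsg.Agent.ThreeTransRank Cfsg.Agent.ThreeTrans

variable {G : Type*} [Group G] {D : Set G} {x z : G}
variable {V : Type*} [AddCommGroup V] [Module (ZMod 2) V] {B : LinearMap.BilinForm (ZMod 2) V} {S : Set V}

namespace LM

/-- An isotropic line through a common member has exactly one further common member. -/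
theorem line_two (h : Base D) (hB : CT B S) (hall : ∀ y, y ≠ 0 → y ∈ S) (m : LM D x B S) (hx : x ∈ D)
    (hz : z ∈ nonc D x) {a b c : G} (ha : a ∈ adj D x) (hb : b ∈ adj D x) (hc : c ∈ adj D x)
    (hza : Commute z a) (hab : B (m.φ a) (m.φ b) = 0) (hne : a ≠ b) (hφ : m.φ c = m.φ a + m.φ b) :
    Commute z c ↔ ¬ Commute z b := by
  obtain ⟨m'⟩ := m.exists_at h hx ha.1
  obtain ⟨hxa, hza'⟩ := mem_adj_pair hx hz ha hza
  have hcab : Commute a b := (m.comm a ha b hb).2 hab
  have hba : b ∈ adj D a := ⟨hb.1, hne.symm, hcab⟩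
  have hne0 : m'.φ b + m'.φ x ≠ 0 := fun e => hb.2.1 (m'.inj hba hxa (eq_of_vadd e))
  obtain ⟨c', hc', hc'φ⟩ := m'.surj _ (hall _ hne0)
  have hc'x : c' ≠ x := fun e => hB.zero (by
    rw [e] at hc'φ
    have h1 : m'.φ b = 0 := left_eq_add.1 (hc'φ.trans (add_comm _ _))
    exact h1 ▸ m'.mem b hba)
  have hc'' : c' ∈ adj D x := by
    refine ⟨hc'.1, hc'x, ((m'.comm c' hc' x hxa).2 ?_).symm⟩
    rw [hc'φ, map_add, LinearMap.add_apply, hB.alt, m'.zero_of_commute hba hxa hb.2.2.symm, add_zero]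
  have hu : m.φ c' + m.φ b = m.φ a := by
    refine (hB.perp_one (fun e => hB.zero (e ▸ m.mem a ha)) fun y hy => ?_).resolve_left fun e => ?_
    · rw [map_add, LinearMap.add_apply]
      by_cases hy0 : y = 0
      · rw [hy0, map_zero, map_zero, add_zero]
      obtain ⟨w, hw, rfl⟩ := m.surj y (hall y hy0)
      by_cases hwa : w = a
      · subst w
        rw [m.zero_of_commute hc'' ha hc'.2.2.symm, m.zero_of_commute hb ha hcab.symm, add_zero]
      have hwa' : w ∈ adj D a := ⟨hw.1, hwa, (m.comm a ha w hw).2 hy⟩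
      refine CharTwo.add_eq_zero.2 (z2_eq_of_iff ?_)
      rw [← m.comm c' hc'' w hw, ← m.comm b hb w hw, m'.comm c' hc' w hwa', m'.comm b hba w hwa', hc'φ,
        map_add, LinearMap.add_apply, m'.zero_of_commute hxa hwa' hw.2.2, add_zero]
    · have h1 : c' = b := m.inj hc'' hb (eq_of_vadd e)
      rw [h1] at hc'φ
      exact hB.zero (left_eq_add.1 hc'φ ▸ m'.mem x hxa)
  have hcc : c' = c := m.inj hc'' hc (by rw [hφ, ← hu, add_assoc, vadd_self, add_zero])
  subst hcc
  have hXZ : B (m'.φ x) (m'.φ z) = 1 := m'.one_of_not_commute hxa hza' hz.2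
  rw [m'.comm z hza' c' hc', m'.comm z hza' b hba, hc'φ, map_add, hB.symm (m'.φ z) (m'.φ x), hXZ]
  rcases z2_cases (B (m'.φ z) (m'.φ b)) with e | e <;> rw [e] <;> decide

/-- All non-zero vectors do not occur. -/
theorem not_all (h : Base D) (hconn : ConnectedComm D) (hB : CT B S) (hall : ∀ y, y ≠ 0 → y ∈ S)
    (m : LM D x B S) (hx : x ∈ D) (hz : z ∈ nonc D x) [Finite G] {a b : G} (ha : a ∈ adj D x)
    (hb : b ∈ adj D x) (hab : ¬ Commute a b) (hza : ¬ Commute z a) (hzb : ¬ Commute z b)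
    (hzc : ¬ Commute z (a * b * a)) : False := by
  have hc : a * b * a ∈ adj D x := adj_conj_mem h ha hb
  have hB1 := m.one_of_not_commute ha hb hab
  have hφc := m.line a ha b hb hab
  -- no common member is perpendicular to the line
  have step : ∀ w ∈ adj D x, Commute z w → B (m.φ a) (m.φ w) = 0 → B (m.φ b) (m.φ w) = 0 → False := by
    intro w hw hzw h1 h2
    have hwa : w ≠ a := fun e => hza (e ▸ hzw)
    have hwb : w ≠ b := fun e => hzb (e ▸ hzw)
    obtain ⟨p, hp, hpφ⟩ := m.surj _ (hall (m.φ w + m.φ a) fun e => hwa (m.inj hw ha (eq_of_vadd e)))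
    obtain ⟨q, hq, hqφ⟩ := m.surj _ (hall (m.φ w + m.φ b) fun e => hwb (m.inj hw hb (eq_of_vadd e)))
    have hzp := (line_two h hB hall m hx hz hw ha hp hzw (by rw [hB.symm]; exact h1) hwa hpφ).2 hza
    have hzq := (line_two h hB hall m hx hz hw hb hq hzw (by rw [hB.symm]; exact h2) hwb hqφ).2 hzb
    have hpq : ¬ Commute p q := by
      rw [m.comm p hp q hq, hpφ, hqφ]
      simp only [map_add, LinearMap.add_apply, hB.alt, hB.symm (m.φ w) (m.φ a), hB.symm (m.φ w) (m.φ b),
        h1, h2, hB1]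
      decide
    refine hzc ?_
    rw [← m.inj (adj_conj_mem h hp hq) hc (by
      rw [m.line p hp q hq hpq, hpφ, hqφ, hφc,
        show m.φ w + m.φ a + (m.φ w + m.φ b) = (m.φ w + m.φ w) + (m.φ a + m.φ b) by abel, vadd_self,
        zero_add])]
    exact (hzp.mul_right hzq).mul_right hzp
  obtain ⟨y, hy⟩ := h.common_nonempty hconn hx hz.1 hz.2
  obtain ⟨-, hxy, hzy⟩ := (mem_common_iff hz.2).1 hy
  -- the member of the line in which `y` projects
  have main : ∀ q ∈ adj D x, ¬ Commute z q → B (m.φ a) (m.φ q) = B (m.φ a) (m.φ y) →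
      B (m.φ b) (m.φ q) = B (m.φ b) (m.φ y) →
      (∀ r, B (m.φ a) r = 0 → B (m.φ b) r = 0 → B (m.φ q) r = 0) → False := by
    intro q hq hzq e1 e2 hperp
    have hyq : y ≠ q := fun e => hzq (e ▸ hzy)
    obtain ⟨r, hr, hrφ⟩ := m.surj _ (hall (m.φ y + m.φ q) fun e => hyq (m.inj hy.1 hq (eq_of_vadd e)))
    have r1 : B (m.φ a) (m.φ r) = 0 := by rw [hrφ, map_add, e1, CharTwo.add_self_eq_zero]
    have r2 : B (m.φ b) (m.φ r) = 0 := by rw [hrφ, map_add, e2, CharTwo.add_self_eq_zero]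
    by_cases hyq0 : B (m.φ y) (m.φ q) = 0
    · exact step r hr ((line_two h hB hall m hx hz hy.1 hq hr hzy hyq0 hyq hrφ).2 hzq) r1 r2
    have e := hperp _ r1 r2
    rw [hrφ, map_add, hB.alt, hB.symm, z2_eq_one hyq0, add_zero] at e
    exact one_ne_zero e
  rcases z2_cases (B (m.φ a) (m.φ y)) with e1 | e1 <;> rcases z2_cases (B (m.φ b) (m.φ y)) with e2 | e2
  · exact step y hy.1 hzy e1 e2
  · exact main a ha hza (by rw [e1, hB.alt]) (by rw [e2, hB.symm, hB1]) fun r h1 _ => h1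
  · exact main b hb hzb (by rw [e1, hB1]) (by rw [e2, hB.alt]) fun r _ h2 => h2
  · exact main (a * b * a) hc hzc (by rw [e1, hφc, map_add, hB.alt, hB1, zero_add])
      (by rw [e2, hφc, map_add, hB.alt, hB.symm, hB1, add_zero])
      fun r h1 h2 => by rw [hφc, map_add, LinearMap.add_apply, h1, h2, add_zero]

end LM

end Cfsg.Agent.FischerMain
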