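/-
Local groups of symmetric type (owner: helper28).

Main result: `Central.no_local_pairs`: if the local quotient of a centrally cored class is a symmetric
group of degree at least five with its transpositions, the class has no plane.
-/
import Cfsg.Agent.Lib.FischerMain.Srg

set_option autoImplicit false

namespace Cfsg.Agent.FischerMain

open Cfsg Cfsg.Agent.ThreeTransRank Cfsg.Agent.ThreeTrans

variable {G : Type*} [Group G] {D : Set G} {n : ℕ}

/-- A set of members as the pairs of `n` points. -/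
structure PairChart (X : Set G) (e : Finset (Fin n) → G) : Prop where
  mem : ∀ s, s.card = 2 → e s ∈ X
  surj : ∀ y ∈ X, ∃ s, s.card = 2 ∧ e s = y
  inj : ∀ s t, s.card = 2 → t.card = 2 → e s = e t → s = t
  comm : ∀ s t, s.card = 2 → t.card = 2 → (Commute (e s) (e t) ↔ Disjoint s t ∨ s = t)
  conj : ∀ a b c, a ≠ b → a ≠ c → b ≠ c → e {a, b} * e {b, c} * e {a, b} = e {a, c}

theorem PairChart.transport {x : G} {e : Finset (Fin n) → G}
    (hconj : ∀ g : G, ∀ d ∈ D, g * d * g⁻¹ ∈ D) (he : PairChart (adj D x) e) (g : G) :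
    PairChart (adj D (g * x * g⁻¹)) fun s => g * e s * g⁻¹ where
  mem s hs := (conj_adj_iff hconj g).2 (he.mem s hs)
  surj y hy := by
    obtain ⟨s, hs, e'⟩ := he.surj (g⁻¹ * y * g)
      ((conj_adj_iff hconj g).1 (by rwa [show g * (g⁻¹ * y * g) * g⁻¹ = y by group]))
    exact ⟨s, hs, by simp only [e']; group⟩
  inj s t hs ht e' := he.inj s t hs ht (mul_left_cancel (mul_right_cancel e'))
  comm s t hs ht := (commute_conj_iff g).trans (he.comm s t hs ht)
  conj a b c h1 h2 h3 := by
    simp only [← he.conj a b c h1 h2 h3]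
    group

theorem swap_commute_iff {a b c d : Fin n} (hab : a ≠ b) (hcd : c ≠ d) :
    Commute (Equiv.swap a b) (Equiv.swap c d) ↔
      Disjoint ({a, b} : Finset (Fin n)) {c, d} ∨ ({a, b} : Finset (Fin n)) = {c, d} := by
  constructor
  · intro h
    by_contra hcon
    rw [not_or, Finset.not_disjoint_iff] at hcon
    obtain ⟨⟨p, hp1, hp2⟩, hne⟩ := hcon
    obtain ⟨u, hu, hpu, hu'⟩ : ∃ u, ({a, b} : Finset (Fin n)) = {p, u} ∧ p ≠ u ∧
        Equiv.swap a b = Equiv.swap p u := by
      rcases Finset.mem_insert.1 hp1 with rfl | h1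
      · exact ⟨b, rfl, hab, rfl⟩
      · obtain rfl := Finset.mem_singleton.1 h1
        exact ⟨a, Finset.pair_comm _ _, hab.symm, Equiv.swap_comm _ _⟩
    obtain ⟨w, hw, hpw, hw'⟩ : ∃ w, ({c, d} : Finset (Fin n)) = {p, w} ∧ p ≠ w ∧
        Equiv.swap c d = Equiv.swap p w := by
      rcases Finset.mem_insert.1 hp2 with rfl | h1
      · exact ⟨d, rfl, hcd, rfl⟩
      · obtain rfl := Finset.mem_singleton.1 h1
        exact ⟨c, Finset.pair_comm _ _, hcd.symm, Equiv.swap_comm _ _⟩
    have huw : u ≠ w := by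
      rintro rfl
      exact hne (hu.trans hw.symm)
    rw [hu', hw'] at h
    have e := congrArg (fun σ : Equiv.Perm (Fin n) => σ u) h.eq
    simp [Equiv.swap_apply_of_ne_of_ne hpu.symm huw] at e
    exact hpw e
  · rintro (h | h)
    · rw [Finset.disjoint_left] at h
      have h1 := h (Finset.mem_insert_self a {b})
      have h2 := h (Finset.mem_insert_of_mem (Finset.mem_singleton_self b))
      simp only [Finset.mem_insert, Finset.mem_singleton, not_or] at h1 h2
      refine Equiv.Perm.Disjoint.commute fun i => ?_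
      by_cases hi : i = a ∨ i = b
      · right
        rcases hi with rfl | rfl
        · exact Equiv.swap_apply_of_ne_of_ne h1.1 h1.2
        · exact Equiv.swap_apply_of_ne_of_ne h2.1 h2.2
      · rw [not_or] at hi
        exact Or.inl (Equiv.swap_apply_of_ne_of_ne hi.1 hi.2)
    · have e : Equiv.swap a b = Equiv.swap c d := by
        have ha : a ∈ ({c, d} : Finset (Fin n)) := h ▸ Finset.mem_insert_self a {b}
        have hb : b ∈ ({c, d} : Finset (Fin n)) :=
          h ▸ Finset.mem_insert_of_mem (Finset.mem_singleton_self b)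
        simp only [Finset.mem_insert, Finset.mem_singleton] at ha hb
        rcases ha with rfl | rfl <;> rcases hb with rfl | rfl <;>
          first
            | rfl
            | exact absurd rfl hab
            | exact Equiv.swap_comm _ _
      rw [e]

/-- A local quotient of symmetric type gives a chart of pairs. -/
theorem Central.exists_pairChart [Finite G] (h : Central D) {x : G} (hx : x ∈ D)
    (e : LocQ D x ≃* Equiv.Perm (Fin n))
    (he : e '' locQSet D x = {σ : Equiv.Perm (Fin n) | σ.IsSwap}) :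
    ∃ ψ, PairChart (adj D x) (n := n) ψ := by
  classical
  have hmem : ∀ σ : Equiv.Perm (Fin n), σ.IsSwap → e.symm σ ∈ locQSet D x := fun σ hσ => by
    have : σ ∈ e '' locQSet D x := he ▸ hσ
    obtain ⟨y, hy, rfl⟩ := this
    simpa using hy
  let sw : Finset (Fin n) → Equiv.Perm (Fin n) := fun s =>
    if hs : s.card = 2 then
      Equiv.swap (Finset.card_eq_two.1 hs).choose (Finset.card_eq_two.1 hs).choose_spec.choose
    else 1
  have hsw : ∀ a b : Fin n, a ≠ b → sw {a, b} = Equiv.swap a b := by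
    intro a b hab
    have hs : ({a, b} : Finset (Fin n)).card = 2 := Finset.card_pair hab
    simp only [sw, dif_pos hs]
    obtain ⟨hne, heq⟩ := (Finset.card_eq_two.1 hs).choose_spec.choose_spec
    generalize (Finset.card_eq_two.1 hs).choose_spec.choose = q at *
    generalize (Finset.card_eq_two.1 hs).choose = p at *
    have ha : p ∈ ({a, b} : Finset (Fin n)) := heq ▸ Finset.mem_insert_self p {q}
    have hb : q ∈ ({a, b} : Finset (Fin n)) :=
      heq ▸ Finset.mem_insert_of_mem (Finset.mem_singleton_self q)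
    simp only [Finset.mem_insert, Finset.mem_singleton] at ha hb
    rcases ha with rfl | rfl <;> rcases hb with rfl | rfl <;>
      first
        | rfl
        | exact absurd rfl hne
        | exact Equiv.swap_comm _ _
  have hswap : ∀ s : Finset (Fin n), s.card = 2 → (sw s).IsSwap := fun s hs => by
    obtain ⟨a, b, hab, rfl⟩ := Finset.card_eq_two.1 hs
    exact ⟨a, b, hab, hsw a b hab⟩
  obtain ⟨ψ, hψ⟩ := exists_lift (fun s : Finset (Fin n) => s.card = 2) (fun s => e.symm (sw s))
    fun s hs => hmem _ (hswap s hs)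
  have hL : ∀ s (hs : s.card = 2),
      toQ ↥(Loc D x) ⟨ψ s, Subgroup.subset_closure (hψ s hs).1⟩ = e.symm (sw s) :=
    fun s hs => (hψ s hs).2 _
  refine ⟨ψ, fun s hs => (hψ s hs).1, fun y hy => ?_, fun s t hs ht e' => ?_, fun s t hs ht => ?_,
    fun a b c h1 h2 h3 => ?_⟩
  · have hσ : e (toQ ↥(Loc D x) ⟨y, Subgroup.subset_closure hy⟩) ∈ e '' locQSet D x :=
      ⟨_, ⟨⟨y, Subgroup.subset_closure hy⟩, hy, rfl⟩, rfl⟩
    rw [he] at hσ
    obtain ⟨a, b, hab, hσ⟩ := hσ
    refine ⟨{a, b}, Finset.card_pair hab, h.lift_eq hx (hψ _ (Finset.card_pair hab)).1 hy ?_⟩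
    rw [hL _ (Finset.card_pair hab), hsw a b hab, ← hσ, MulEquiv.symm_apply_apply]
  · have h' : sw s = sw t := e.symm.injective (by
      rw [← hL s hs, ← hL t ht]; exact congrArg _ (Subtype.ext e'))
    obtain ⟨a, b, hab, rfl⟩ := Finset.card_eq_two.1 hs
    obtain ⟨c, d, hcd, rfl⟩ := Finset.card_eq_two.1 ht
    rw [hsw a b hab, hsw c d hcd] at h'
    have e1 := congrArg (fun σ : Equiv.Perm (Fin n) => σ.support) h'
    simpa [Equiv.Perm.support_swap hab, Equiv.Perm.support_swap hcd] using e1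
  · rw [← h.lift_comm hx (hψ s hs).1 (hψ t ht).1, hL s hs, hL t ht]
    obtain ⟨a, b, hab, rfl⟩ := Finset.card_eq_two.1 hs
    obtain ⟨c, d, hcd, rfl⟩ := Finset.card_eq_two.1 ht
    rw [← swap_commute_iff hab hcd, hsw a b hab, hsw c d hcd]
    exact ⟨fun hh => by simpa using hh.map e.toMonoidHom, fun hh => hh.map e.symm.toMonoidHom⟩
  · have q1 := Finset.card_pair h1
    have q2 := Finset.card_pair h3
    have q3 := Finset.card_pair h2
    refine h.lift_eq hx (adj_conj_mem h.toBase (hψ _ q1).1 (hψ _ q2).1) (hψ _ q3).1 ?_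
    show toQ ↥(Loc D x) (⟨_, Subgroup.subset_closure (hψ _ q1).1⟩ *
      ⟨_, Subgroup.subset_closure (hψ _ q2).1⟩ * ⟨_, Subgroup.subset_closure (hψ _ q1).1⟩) = _
    rw [map_mul, map_mul, hL _ q1, hL _ q2, hL _ q3, ← map_mul, ← map_mul, hsw a b h1, hsw b c h3,
      hsw a c h2]
    congr 1
    rw [Equiv.mul_swap_eq_swap_mul (Equiv.swap a b) b c, mul_assoc, Equiv.swap_mul_self, mul_one, Equiv.swap_apply_right,
      Equiv.swap_apply_of_ne_of_ne h2.symm h3.symm]

namespace PairChart

variable [Finite G] {x z : G} {e : Finset (Fin n) → G}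

/-- Two points joined by a member commuting with `x` and `z`. -/
def Joined (D : Set G) (x z : G) (e : Finset (Fin n) → G) (a b : Fin n) : Prop :=
  a = b ∨ e {a, b} ∈ common D x z

theorem Joined.symm {a b : Fin n} (h : Joined D x z e a b) : Joined D x z e b a :=
  h.imp Eq.symm fun h' => by rwa [Finset.pair_comm]

variable (h : Central D) (hch : PairChart (adj D x) e) (hx : x ∈ D) (hz : z ∈ nonc D x)
include h hch hx hz

theorem common_conj {a b : G} (ha : a ∈ common D x z) (hb : b ∈ common D x z) :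
    a * b * a ∈ common D x z := by
  rw [mem_common_iff hz.2] at ha hb ⊢
  exact ⟨h.toBase.conj_mem' ha.1 hb.1, (ha.2.1.mul_right hb.2.1).mul_right ha.2.1,
    (ha.2.2.mul_right hb.2.2).mul_right ha.2.2⟩

theorem Joined.trans {a b c : Fin n} (h1 : Joined D x z e a b) (h2 : Joined D x z e b c) :
    Joined D x z e a c := by
  rcases h1 with rfl | h1
  · exact h2
  rcases h2 with rfl | h2
  · exact Or.inr h1
  by_cases hac : a = c
  · exact Or.inl hac
  by_cases hab : a = b
  · subst hab; exact Or.inr h2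
  by_cases hbc : b = c
  · subst hbc; exact Or.inr h1
  exact Or.inr (hch.conj a b c hab hac hbc ▸ common_conj h hch hx hz h1 h2)

theorem joined_of_mem {s : Finset (Fin n)} (hs : s.card = 2) (hm : e s ∈ common D x z) {a b : Fin n}
    (ha : a ∈ s) (hb : b ∈ s) : Joined D x z e a b := by
  obtain ⟨p, q, -, rfl⟩ := Finset.card_eq_two.1 hs
  simp only [Finset.mem_insert, Finset.mem_singleton] at ha hb
  rcases ha with rfl | rfl <;> rcases hb with rfl | rfl
  · exact Or.inl rfl
  · exact Or.inr hm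
  · exact Or.inr (by rwa [Finset.pair_comm])
  · exact Or.inl rfl

/-- The members commuting with `x`, `z` and a member `e s` among them. -/
theorem exists_class (hn : 5 ≤ n) {s : Finset (Fin n)} (hs : s.card = 2) (hm : e s ∈ common D x z) :
    ∃ W : Finset (Fin n), n - 3 ≤ W.card ∧ Disjoint s W ∧
      (∀ a ∈ W, ∀ b ∈ W, Joined D x z e a b) ∧
      (∀ t, t.card = 2 → Disjoint s t → e t ∈ common D x z → t ⊆ W) ∧
      (n = 5 → W.card = 2) := by
  classical
  obtain ⟨g, hg⟩ := class_conj h.cls hx hm.1.1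
  have hφ : PairChart (adj D (e s)) _ := hg ▸ hch.transport h.toBase.conj g
  set φ : Finset (Fin n) → G := fun t => g * e t * g⁻¹
  obtain ⟨p, hp, hpx⟩ := hφ.surj x (mem_adj_symm hx hm.1)
  obtain ⟨q, hq, hqz⟩ := hφ.surj z (mem_adj_symm hz.1 hm.2)
  have hpq : ¬ Disjoint p q ∧ p ≠ q := by
    rw [← not_or, ← hφ.comm p q hp hq, hpx, hqz]; exact hz.2
  set U := Finset.univ \ (p ∪ q)
  have hU : U.card = n - 3 := by
    have h1 := Finset.card_union_add_card_inter p q
    have h2 : (p ∩ q).card ≠ 0 := fun e0 =>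
      hpq.1 (Finset.disjoint_iff_inter_eq_empty.2 (Finset.card_eq_zero.1 e0))
    have h3 : (p ∩ q).card ≠ 2 := fun e2 => hpq.2 ((Finset.eq_of_subset_of_card_le
      Finset.inter_subset_left (by omega)).symm.trans
      (Finset.eq_of_subset_of_card_le Finset.inter_subset_right (by omega)))
    have h4 := Finset.card_le_card (Finset.inter_subset_left : p ∩ q ⊆ p)
    have h5 : U.card = Fintype.card (Fin n) - (p ∪ q).card := Finset.card_univ_sdiff _
    rw [Fintype.card_fin] at h5
    omega
  have inU : ∀ {r : Finset (Fin n)}, r ⊆ U ↔ Disjoint r p ∧ Disjoint r q := fun {r} => by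
    simp [U, Finset.subset_sdiff, Finset.disjoint_union_right]
  let N : Set G := common D x z ∩ adj D (e s)
  have hN : N = φ '' ↑(U.powersetCard 2) := by
    ext y
    constructor
    · rintro ⟨hy, hya⟩
      obtain ⟨r, hr, rfl⟩ := hφ.surj y hya
      rw [mem_common_iff hz.2] at hy
      refine ⟨r, Finset.mem_coe.2 (Finset.mem_powersetCard.2 ⟨inU.2 ⟨?_, ?_⟩, hr⟩), rfl⟩
      · rcases (hφ.comm p r hp hr).1 (hpx ▸ hy.2.1) with h' | rfl
        · exact h'.symm
        · exact absurd (hpx ▸ hy.2.2).symm hz.2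
      · rcases (hφ.comm q r hq hr).1 (hqz ▸ hy.2.2) with h' | rfl
        · exact h'.symm
        · exact absurd (hqz ▸ hy.2.1) hz.2
    · rintro ⟨r, hr, rfl⟩
      obtain ⟨hrU, hr⟩ := Finset.mem_powersetCard.1 hr
      obtain ⟨d1, d2⟩ := inU.1 hrU
      refine ⟨(mem_common_iff hz.2).2 ⟨(hφ.mem r hr).1, ?_, ?_⟩, hφ.mem r hr⟩
      · exact hpx ▸ (hφ.comm p r hp hr).2 (Or.inl d1.symm)
      · exact hqz ▸ (hφ.comm q r hq hr).2 (Or.inl d2.symm)
  have hNcard : N.ncard = (n - 3).choose 2 := by
    rw [hN, Set.InjOn.ncard_image, Set.ncard_coe_finset, Finset.card_powersetCard, hU]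
    intro r hr r' hr' e'
    exact hφ.inj r r' (Finset.mem_powersetCard.1 hr).2 (Finset.mem_powersetCard.1 hr').2 e'
  have memN : ∀ {t : Finset (Fin n)}, t.card = 2 → (e t ∈ N ↔ Disjoint s t ∧ e t ∈ common D x z) := by
    intro t ht
    constructor
    · rintro ⟨h1, h2⟩
      exact ⟨((hch.comm s t hs ht).1 h2.2.2).resolve_right fun e' => h2.2.1 (by rw [e']), h1⟩
    · rintro ⟨h1, h2⟩
      refine ⟨h2, h2.1.1, fun e' => ?_, (hch.comm s t hs ht).2 (Or.inl h1)⟩
      rw [hch.inj t s ht hs e', disjoint_self, Finset.bot_eq_empty] at h1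
      rw [h1] at hs
      simp at hs
  -- any two members of `N` lie in one class
  have link : ∀ {t t' : Finset (Fin n)}, t.card = 2 → t'.card = 2 → e t ∈ N → e t' ∈ N →
      ∀ a ∈ t, ∀ b ∈ t', Joined D x z e a b := by
    intro t t' ht ht' hm1 hm2 a ha b hb
    have meet : ∀ {t t' : Finset (Fin n)}, t.card = 2 → t'.card = 2 → e t ∈ N → e t' ∈ N →
        ¬ Commute (e t) (e t') → ∀ a ∈ t, ∀ b ∈ t', Joined D x z e a b := by
      intro t t' ht ht' hm1 hm2 hnc a ha b hb
      obtain ⟨o, ho, ho'⟩ := Finset.not_disjoint_iff.1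
        (fun hd => hnc ((hch.comm t t' ht ht').2 (Or.inl hd)))
      exact Joined.trans h hch hx hz (joined_of_mem h hch hx hz ht hm1.1 ha ho)
        (joined_of_mem h hch hx hz ht' hm2.1 ho' hb)
    by_cases hc : Commute (e t) (e t')
    swap; · exact meet ht ht' hm1 hm2 hc a ha b hb
    by_cases htt : t = t'
    · subst htt; exact joined_of_mem h hch hx hz ht hm1.1 ha hb
    obtain ⟨r, hrm, hre⟩ : e t ∈ φ '' ↑(U.powersetCard 2) := hN ▸ hm1
    obtain ⟨r', hrm', hre'⟩ : e t' ∈ φ '' ↑(U.powersetCard 2) := hN ▸ hm2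
    obtain ⟨hrU, hr⟩ := Finset.mem_powersetCard.1 hrm
    obtain ⟨hrU', hr'⟩ := Finset.mem_powersetCard.1 hrm'
    have hd : Disjoint r r' := by
      rcases (hφ.comm r r' hr hr').1 (by rw [hre, hre']; exact hc) with h' | h'
      · exact h'
      · exact absurd (hch.inj t t' ht ht' (by rw [← hre, ← hre', h'])) htt
    obtain ⟨i, hi⟩ := Finset.card_pos.1 (by omega : 0 < r.card)
    obtain ⟨k, hk⟩ := Finset.card_pos.1 (by omega : 0 < r'.card)
    have hik : i ≠ k := fun e' => Finset.disjoint_left.1 hd hi (e' ▸ hk)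
    have q2 : ({i, k} : Finset (Fin n)).card = 2 := Finset.card_pair hik
    have hmid : φ {i, k} ∈ N := hN ▸ ⟨{i, k}, Finset.mem_coe.2 (Finset.mem_powersetCard.2
      ⟨Finset.insert_subset (hrU hi) (Finset.singleton_subset_iff.2 (hrU' hk)), q2⟩), rfl⟩
    obtain ⟨m, hm', hme⟩ := hch.surj _ hmid.1.1
    obtain ⟨o, ho⟩ := Finset.card_pos.1 (by omega : 0 < m.card)
    have n1 : ¬ Commute (e t) (e m) := by
      rw [← hre, hme, hφ.comm r _ hr q2, not_or]
      exact ⟨Finset.not_disjoint_iff.2 ⟨i, hi, Finset.mem_insert_self _ _⟩,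
        fun e' => Finset.disjoint_left.1 hd (e' ▸ Finset.mem_insert_of_mem (Finset.mem_singleton_self k)) hk⟩
    have n2 : ¬ Commute (e m) (e t') := by
      rw [← hre', hme, hφ.comm _ r' q2 hr', not_or]
      exact ⟨Finset.not_disjoint_iff.2 ⟨k, Finset.mem_insert_of_mem (Finset.mem_singleton_self k), hk⟩,
        fun e' => Finset.disjoint_left.1 hd hi (e' ▸ Finset.mem_insert_self i {k})⟩
    have hmN : e m ∈ N := hme ▸ hmid
    exact Joined.trans h hch hx hz (meet ht hm' hm1 hmN n1 a ha o ho)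
      (meet hm' ht' hmN hm2 n2 o ho b hb)
  let W : Finset (Fin n) :=
    Finset.univ.filter fun a => ∃ t : Finset (Fin n), t.card = 2 ∧ a ∈ t ∧ e t ∈ N
  have subW : ∀ t, t.card = 2 → Disjoint s t → e t ∈ common D x z → t ⊆ W := fun t ht hd hmt a ha =>
    Finset.mem_filter.2 ⟨Finset.mem_univ a, t, ht, ha, (memN ht).2 ⟨hd, hmt⟩⟩
  have allW : ∀ a ∈ W, ∀ b ∈ W, Joined D x z e a b := by
    intro a ha b hb
    obtain ⟨-, t, ht, hat, hmt⟩ := Finset.mem_filter.1 ha
    obtain ⟨-, t', ht', hbt, hmt'⟩ := Finset.mem_filter.1 hb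
    exact link ht ht' hmt hmt' a hat b hbt
  have disW : Disjoint s W := Finset.disjoint_left.2 fun a ha haW => by
    obtain ⟨-, t, ht, hat, hmt⟩ := Finset.mem_filter.1 haW
    exact Finset.disjoint_left.1 ((memN ht).1 hmt).1 ha hat
  have hNW : N = e '' ↑(W.powersetCard 2) := by
    ext y
    constructor
    · intro hy
      obtain ⟨t, ht, rfl⟩ := hch.surj y hy.1.1
      exact ⟨t, Finset.mem_coe.2 (Finset.mem_powersetCard.2 ⟨subW t ht ((memN ht).1 hy).1 hy.1, ht⟩), rfl⟩
    · rintro ⟨t, ht, rfl⟩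
      obtain ⟨htW, ht⟩ := Finset.mem_powersetCard.1 ht
      obtain ⟨a, b, hab, rfl⟩ := Finset.card_eq_two.1 ht
      refine (memN ht).2 ⟨disW.mono_right htW, ?_⟩
      exact (allW a (htW (Finset.mem_insert_self _ _)) b
        (htW (Finset.mem_insert_of_mem (Finset.mem_singleton_self b)))).resolve_left hab
  have hW : W.card.choose 2 = (n - 3).choose 2 := by
    rw [← hNcard, hNW, Set.InjOn.ncard_image, Set.ncard_coe_finset, Finset.card_powersetCard]
    intro r hr r' hr' e'
    exact hch.inj r r' (Finset.mem_powersetCard.1 hr).2 (Finset.mem_powersetCard.1 hr').2 e'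
  refine ⟨W, ?_, disW, allW, subW, fun h5 => ?_⟩
  · by_contra hlt
    have h1 := Nat.choose_le_choose 2 (show W.card ≤ n - 4 by omega)
    have h2 : (n - 3).choose 2 = (n - 4).choose 1 + (n - 4).choose 2 := by
      rw [show n - 3 = (n - 4) + 1 by omega, Nat.choose_succ_succ]
    rw [Nat.choose_one_right] at h2
    omega
  · subst h5
    by_contra hne
    rcases lt_or_gt_of_ne hne with h' | h'
    · rw [Nat.choose_eq_zero_of_lt h'] at hW; exact absurd hW (by decide)
    · have := Nat.choose_le_choose 2 (show 3 ≤ W.card by omega)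
      rw [hW] at this; exact absurd this (by decide)

/-- No line misses `common D x z`, or it has two members and there are five points. -/
theorem hit_or_two (hn : 5 ≤ n) :
    (∀ a b c : Fin n, Joined D x z e a b ∨ Joined D x z e a c ∨ Joined D x z e b c) ∨
      (n = 5 ∧ (common D x z).ncard = 2) := by
  classical
  -- a class containing all points but one
  have one : ∀ C : Finset (Fin n), n ≤ C.card + 1 → (∀ a ∈ C, ∀ b ∈ C, Joined D x z e a b) →
      ∀ a b c : Fin n, Joined D x z e a b ∨ Joined D x z e a c ∨ Joined D x z e b c := by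
    intro C hC hall a b c
    have hco : (Finset.univ \ C).card ≤ 1 := by
      rw [Finset.card_univ_sdiff, Fintype.card_fin]; omega
    have out : ∀ {i j : Fin n}, i ∉ C → j ∉ C → i = j := fun hi hj =>
      Finset.card_le_one.1 hco _ (by simp [hi]) _ (by simp [hj])
    by_cases ha : a ∈ C
    · by_cases hb : b ∈ C
      · exact Or.inl (hall a ha b hb)
      · by_cases hc : c ∈ C
        · exact Or.inr (Or.inl (hall a ha c hc))
        · exact Or.inr (Or.inr (Or.inl (out hb hc)))
    · by_cases hb : b ∈ C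
      · by_cases hc : c ∈ C
        · exact Or.inr (Or.inr (hall b hb c hc))
        · exact Or.inr (Or.inl (Or.inl (out ha hc)))
      · exact Or.inl (Or.inl (out ha hb))
  obtain ⟨v, hv⟩ := h.toBase.common_nonempty h.conn hx hz.1 hz.2
  obtain ⟨s, hs, rfl⟩ := hch.surj v hv.1
  obtain ⟨W, hW, hsW, allW, subW, five⟩ := exists_class h hch hx hz hn hs hv
  obtain ⟨a₀, ha₀, b₀, hb₀, hab₀⟩ := Finset.one_lt_card.1 (by omega : 1 < W.card)
  have ht : ({a₀, b₀} : Finset (Fin n)).card = 2 := Finset.card_pair hab₀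
  have htm := (allW a₀ ha₀ b₀ hb₀).resolve_left hab₀
  have hts : Disjoint ({a₀, b₀} : Finset (Fin n)) s :=
    (hsW.mono_right (Finset.insert_subset ha₀ (Finset.singleton_subset_iff.2 hb₀))).symm
  have merge : (∃ i ∈ s, ∃ j ∈ W, Joined D x z e i j) →
      ∀ a b c : Fin n, Joined D x z e a b ∨ Joined D x z e a c ∨ Joined D x z e b c := by
    rintro ⟨i, hi, j, hj, hij⟩
    refine one (s ∪ W) (by rw [Finset.card_union_of_disjoint hsW]; omega) fun a ha b hb => ?_
    have toj : ∀ a ∈ s ∪ W, Joined D x z e a j := fun a ha => by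
      rcases Finset.mem_union.1 ha with ha | ha
      · exact Joined.trans h hch hx hz (joined_of_mem h hch hx hz hs hv ha hi) hij
      · exact allW a ha j hj
    exact Joined.trans h hch hx hz (toj a ha) (toj b hb).symm
  obtain ⟨W', hW', htW', allW', subW', five'⟩ := exists_class h hch hx hz hn ht htm
  have hsW' : s ⊆ W' := subW' s hs hts hv
  obtain ⟨i, hi⟩ := Finset.card_pos.1 (by omega : 0 < s.card)
  by_cases hmeet : (W' ∩ W).Nonempty
  · obtain ⟨j, hj⟩ := hmeet
    exact Or.inl (merge ⟨i, hi, j, (Finset.mem_inter.1 hj).2, allW' i (hsW' hi) j (Finset.mem_inter.1 hj).1⟩)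
  rw [Finset.not_nonempty_iff_eq_empty, ← Finset.disjoint_iff_inter_eq_empty] at hmeet
  rcases eq_or_lt_of_le hn with h5 | h6
  · -- five points
    by_cases htwo : common D x z = {e s, e {a₀, b₀}}
    · refine Or.inr ⟨h5.symm, ?_⟩
      rw [htwo, Set.ncard_pair fun e' => ?_]
      rw [hch.inj _ _ hs ht e', disjoint_self] at hts
      exact (Finset.card_pos.1 (by omega : 0 < ({a₀, b₀} : Finset (Fin n)).card)).ne_empty hts
    left
    have hWe : W = {a₀, b₀} := (Finset.eq_of_subset_of_card_le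
      (Finset.insert_subset ha₀ (Finset.singleton_subset_iff.2 hb₀))
      (by rw [five h5.symm, ht])).symm
    have hsW'' : s = W' := Finset.eq_of_subset_of_card_le hsW' (by rw [five' h5.symm, hs])
    obtain ⟨u, hu, hu'⟩ : ∃ u ∈ common D x z, u ∉ ({e s, e {a₀, b₀}} : Set G) := by
      by_contra hcon
      push Not at hcon
      refine htwo (Set.Subset.antisymm hcon ?_)
      rintro u (rfl | rfl)
      exacts [hv, htm]
    obtain ⟨r, hr, rfl⟩ := hch.surj u hu.1
    have m1 : ¬ Disjoint s r := fun hd => hu' (Or.inr (congrArg e (Finset.eq_of_subset_of_card_le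
      (hWe ▸ subW r hr hd hu) (by rw [hr, ht]))))
    have m2 : ¬ Disjoint ({a₀, b₀} : Finset (Fin n)) r := fun hd => hu' (Or.inl (congrArg e
      (Finset.eq_of_subset_of_card_le (hsW'' ▸ subW' r hr hd hu) (by rw [hr, hs]))))
    obtain ⟨p, hp, hp'⟩ := Finset.not_disjoint_iff.1 m1
    obtain ⟨q, hq, hq'⟩ := Finset.not_disjoint_iff.1 m2
    exact merge ⟨p, hp, q, hWe ▸ hq, joined_of_mem h hch hx hz hr hu hp' hq'⟩
  · left
    intro a b c
    have hcov : ∀ d, d ∈ W ∨ d ∈ W' := by
      intro d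
      have hu : W' ∪ W = Finset.univ := Finset.eq_univ_of_card _ (by
        have h1 := Finset.card_le_univ (W' ∪ W)
        rw [Fintype.card_fin, Finset.card_union_of_disjoint hmeet] at h1
        rw [Fintype.card_fin, Finset.card_union_of_disjoint hmeet]
        omega)
      rcases Finset.mem_union.1 (hu.ge (Finset.mem_univ d)) with h' | h'
      exacts [Or.inr h', Or.inl h']
    rcases hcov a with ha | ha <;> rcases hcov b with hb | hb <;> rcases hcov c with hc | hc
    all_goals first
      | exact Or.inl (allW a ha b hb)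
      | exact Or.inl (allW' a ha b hb)
      | exact Or.inr (Or.inl (allW a ha c hc))
      | exact Or.inr (Or.inl (allW' a ha c hc))
      | exact Or.inr (Or.inr (allW b hb c hc))
      | exact Or.inr (Or.inr (allW' b hb c hc))

end PairChart

/-- A class with a local group of symmetric type has no plane. -/
theorem Central.no_local_pairs [Finite G] (h : Central D) {x : G} (hx : x ∈ D) (hn : 5 ≤ n)
    (e : LocQ D x ≃* Equiv.Perm (Fin n))
    (he : e '' locQSet D x = {σ : Equiv.Perm (Fin n) | σ.IsSwap}) : NoPlane D := by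
  classical
  obtain ⟨ψ, hch⟩ := h.exists_pairChart hx e he
  intro a ha b hb hab w hw hwa hwb
  by_contra hwc
  obtain ⟨x₀, hx₀⟩ := h.toBase.common_nonempty h.conn ha hb hab
  obtain ⟨g, hg⟩ := class_conj h.cls hx₀.1.1 hx
  set a' := g * a * g⁻¹
  set b' := g * b * g⁻¹
  set z := g * w * g⁻¹
  have hc' : g * (a * b * a) * g⁻¹ = a' * b' * a' := by simp only [a', b']; group
  have na : a' ∈ adj D x := hg ▸ (conj_adj_iff h.toBase.conj g).2 (mem_adj_symm ha hx₀.1)
  have nb : b' ∈ adj D x := hg ▸ (conj_adj_iff h.toBase.conj g).2 (mem_adj_symm hb hx₀.2)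
  obtain ⟨s, hs, hsa⟩ := hch.surj a' na
  obtain ⟨t, ht, htb⟩ := hch.surj b' nb
  have hst : ¬ Disjoint s t ∧ s ≠ t := by
    rw [← not_or, ← hch.comm s t hs ht, hsa, htb]
    exact fun hh => hab ((commute_conj_iff g).1 hh)
  obtain ⟨j, hjs, hjt⟩ := Finset.not_disjoint_iff.1 hst.1
  obtain ⟨i, rfl, hij⟩ : ∃ i, s = {i, j} ∧ i ≠ j := by
    obtain ⟨p, q, hpq, rfl⟩ := Finset.card_eq_two.1 hs
    rcases Finset.mem_insert.1 hjs with rfl | h'
    · exact ⟨q, Finset.pair_comm _ _, hpq.symm⟩
    · obtain rfl := Finset.mem_singleton.1 h'; exact ⟨p, rfl, hpq⟩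
  obtain ⟨k, rfl, hjk⟩ : ∃ k, t = {j, k} ∧ j ≠ k := by
    obtain ⟨p, q, hpq, rfl⟩ := Finset.card_eq_two.1 ht
    rcases Finset.mem_insert.1 hjt with rfl | h'
    · exact ⟨q, rfl, hpq⟩
    · obtain rfl := Finset.mem_singleton.1 h'; exact ⟨p, Finset.pair_comm _ _, hpq.symm⟩
  have hik : i ≠ k := fun e' => hst.2 (by rw [e', Finset.pair_comm])
  have habc : ψ {i, k} = a' * b' * a' := by rw [← hch.conj i j k hij hik hjk, hsa, htb]
  have miss : ∀ y, Commute z (g * y * g⁻¹) → Commute w y := fun y => (commute_conj_iff g).1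
  have nz : z ∈ nonc D x := by
    refine ⟨h.toBase.conj g w hw, fun hcm => ?_⟩
    have hzadj : z ∈ adj D x := ⟨h.toBase.conj g w hw,
      fun e' => hwa (miss a (e' ▸ na.2.2)), hcm⟩
    obtain ⟨r, hr, hrz⟩ := hch.surj z hzadj
    have m : ∀ {p q : Fin n} {y : G}, p ≠ q → ψ {p, q} = g * y * g⁻¹ → ¬ Commute w y →
        (p ∈ r ∨ q ∈ r) ∧ r ≠ {p, q} := by
      intro p q y hpq hy hn'
      have hnd : ¬ (Disjoint r {p, q} ∨ r = {p, q}) := fun hh =>
        hn' (miss y (hy ▸ hrz ▸ (hch.comm r _ hr (Finset.card_pair hpq)).2 hh))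
      rw [not_or, Finset.disjoint_left] at hnd
      push Not at hnd
      obtain ⟨⟨o, ho, ho'⟩, hne⟩ := hnd
      refine ⟨?_, hne⟩
      rcases Finset.mem_insert.1 ho' with rfl | h'
      · exact Or.inl ho
      · exact Or.inr (Finset.mem_singleton.1 h' ▸ ho)
    obtain ⟨m1, d1⟩ := m hij hsa hwa
    obtain ⟨m2, d2⟩ := m hjk htb hwb
    obtain ⟨m3, d3⟩ := m hik (habc.trans hc'.symm) hwc
    have two : ∀ {p q : Fin n}, p ≠ q → p ∈ r → q ∈ r → r = {p, q} := fun hpq hp hq =>
      (Finset.eq_of_subset_of_card_le (Finset.insert_subset hp (Finset.singleton_subset_iff.2 hq))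
        (by rw [hr, Finset.card_pair hpq])).symm
    rcases m1 with hi | hj
    · rcases m2 with hj | hk
      · exact d1 (two hij hi hj)
      · exact d3 (two hik hi hk)
    · rcases m3 with hi | hk
      · exact d1 (two hij hi hj)
      · exact d2 (two hjk hj hk)
  rcases PairChart.hit_or_two h hch hx nz hn with hall | ⟨rfl, hmu⟩
  · have key : ∀ {p q : Fin n} {y : G}, p ≠ q → ψ {p, q} = g * y * g⁻¹ →
        PairChart.Joined D x z ψ p q → Commute w y := fun hpq hy hj =>
      miss _ (hy ▸ (((mem_common_iff nz.2).1 (hj.resolve_left hpq)).2.2))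
    rcases hall i j k with hj' | hj' | hj'
    · exact hwa (key hij hsa hj')
    · exact hwc (key hik (habc.trans hc'.symm) hj')
    · exact hwb (key hjk htb hj')
  · -- five points: no such parameters
    have hk : (adj D x).ncard = 10 := by
      have e1 : adj D x = ψ '' ↑((Finset.univ : Finset (Fin 5)).powersetCard 2) := by
        ext y
        refine ⟨fun hy => ?_, ?_⟩
        · obtain ⟨r, hr, rfl⟩ := hch.surj y hy
          exact ⟨r, Finset.mem_coe.2 (Finset.mem_powersetCard.2 ⟨Finset.subset_univ r, hr⟩), rfl⟩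
        · rintro ⟨r, hr, rfl⟩
          exact hch.mem r (Finset.mem_powersetCard.1 hr).2
      rw [e1, Set.InjOn.ncard_image, Set.ncard_coe_finset, Finset.card_powersetCard,
        Finset.card_univ, Fintype.card_fin]
      · rfl
      intro r hr r' hr' e'
      exact hch.inj r r' (Finset.mem_powersetCard.1 hr).2 (Finset.mem_powersetCard.1 hr').2 e'
    have hlam : ∀ v ∈ adj D x, (common D x v).ncard = 3 := by
      intro v hv
      obtain ⟨r, hr, rfl⟩ := hch.surj v hv
      have e1 : common D x (ψ r) = ψ '' ↑((Finset.univ \ r).powersetCard 2) := by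
        ext y
        refine ⟨fun hy => ?_, ?_⟩
        · obtain ⟨r', hr', rfl⟩ := hch.surj y hy.1
          refine ⟨r', Finset.mem_coe.2 (Finset.mem_powersetCard.2
            ⟨Finset.subset_sdiff.2 ⟨Finset.subset_univ r', ?_⟩, hr'⟩), rfl⟩
          exact (((hch.comm r r' hr hr').1 hy.2.2.2).resolve_right fun e' => hy.2.2.1 (by rw [e'])).symm
        · rintro ⟨r', hr', rfl⟩
          obtain ⟨hsub, hr'⟩ := Finset.mem_powersetCard.1 hr'
          have hd := (Finset.subset_sdiff.1 hsub).2
          refine ⟨hch.mem r' hr', (hch.mem r' hr').1, fun e' => ?_, (hch.comm r r' hr hr').2 (Or.inl hd.symm)⟩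
          rw [hch.inj r' r hr' hr e', disjoint_self, Finset.bot_eq_empty] at hd
          rw [hd] at hr
          simp at hr
      rw [e1, Set.InjOn.ncard_image, Set.ncard_coe_finset, Finset.card_powersetCard,
        Finset.card_univ_sdiff, Fintype.card_fin, hr]
      · rfl
      intro r₁ h₁ r₂ h₂ e'
      exact hch.inj r₁ r₂ (Finset.mem_powersetCard.1 h₁).2 (Finset.mem_powersetCard.1 h₂).2 e'
    have hdisc : srgDisc 10 3 2 = 33 := rfl
    obtain ⟨l, hl, hh⟩ := h.toBase.srg h.conn hx nz hk hlam hmu (by rw [hdisc]; norm_num)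
    have hl' : l = 30 := by omega
    subst hl'
    rcases hh with hh | ⟨r, hr, -⟩
    · exact absurd hh (by decide)
    · rw [hdisc] at hr
      norm_cast at hr
      have : r < 6 := by nlinarith
      interval_cases r <;> norm_num at hr

end Cfsg.Agent.FischerMain
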