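/-
The local group without planes: quadrics.

Main results: `LM.no_quadric_large`, `quadric_six` : in dimension six the pairs of eight points or a chart.
-/
import Cfsg.Agent.Lib.FischerMain.Excl.LocalModel
import Cfsg.Agent.Lib.FischerMain.Unitary.FiveThree
import Cfsg.Agent.Lib.Orth.EvenSymp
import Cfsg.Agent.Lib.Forms.BinaryType

set_option autoImplicit false

namespace Cfsg.Agent.FischerMain

open Cfsg Cfsg.Agent.ThreeTransRank Cfsg.Agent.ThreeTrans
open QuadraticMap (polar)

variable {G : Type*} [Group G] {D : Set G} {x z : G}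
variable {V : Type*} [AddCommGroup V] [Module (ZMod 2) V] {B : LinearMap.BilinForm (ZMod 2) V} {S : Set V}

/-- There is a vector perpendicular to the given ones outside a small span. -/
theorem exists_perp_notMem [Finite V] (B : LinearMap.BilinForm (ZMod 2) V) {p q : ℕ} (P : Fin p → V)
    (N : Fin q → V) (hlt : p + q < Module.finrank (ZMod 2) V) :
    ∃ y, (∀ i, B (P i) y = 0) ∧ ∀ c : Fin q → ZMod 2, y ≠ ∑ i, c i • N i := by
  by_contra hcon
  push Not at hcon
  set T : V →ₗ[ZMod 2] (Fin p → ZMod 2) := LinearMap.pi fun i => B (P i)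
  have hle : LinearMap.ker T ≤ LinearMap.range (Fintype.linearCombination (ZMod 2) N) := by
    intro y hy
    obtain ⟨c, rfl⟩ := hcon y fun i => congrFun (LinearMap.mem_ker.1 hy) i
    exact ⟨c, by simp [Fintype.linearCombination_apply]⟩
  have h1 := LinearMap.finrank_range_add_finrank_ker T
  have h2 : Module.finrank (ZMod 2) (LinearMap.range T) ≤ p :=
    le_trans (Submodule.finrank_le _) (le_of_eq (by simp))
  have h3 := Submodule.finrank_mono hle
  have h4 : Module.finrank (ZMod 2) (LinearMap.range (Fintype.linearCombination (ZMod 2) N)) ≤ q :=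
    le_trans (LinearMap.finrank_range_le _) (le_of_eq (by simp))
  omega

namespace LM

variable {Q : QuadraticForm (ZMod 2) V}

theorem q_add (hpol : ∀ u v, polar Q u v = B u v) (u v : V) : Q (u + v) = Q u + Q v + B u v := by
  rw [← hpol]; simp only [polar]; ring

theorem q_mem (hS : S = {v | Q v = 1}) (m : LM D x B S) {a : G} (ha : a ∈ adj D x) : Q (m.φ a) = 1 :=
  (Set.ext_iff.1 hS _).1 (m.mem a ha)

/-- A vector perpendicular to the members at `x` commuting with `v` is trivial or that of `v`. -/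
theorem span_perp (hB : CT B S) (hpol : ∀ u v, polar Q u v = B u v) (hS : S = {v | Q v = 1})
    (m : LM D x B S) {v : G} (hv : v ∈ adj D x) {u : V} (huv : B u (m.φ v) = 0)
    (hu : ∀ w ∈ adj D x, w ∈ adj D v → B u (m.φ w) = 0) : u = 0 ∨ u = m.φ v := by
  refine hB.perp_one (fun e => hB.zero (e ▸ m.mem v hv)) fun y hy => ?_
  have one : ∀ y, Q y = 1 → B (m.φ v) y = 0 → B u y = 0 := by
    intro y hy1 hy2
    obtain ⟨w, hw, rfl⟩ := m.surj y (hS ▸ hy1)
    by_cases e : w = v
    · exact e ▸ huv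
    exact hu w hw ⟨hw.1, e, (m.comm v hv w hw).2 hy2⟩
  rcases z2_cases (Q y) with e | e
  · have := one (y + m.φ v) (by rw [q_add hpol, e, q_mem hS m hv, hB.symm, hy]; decide)
      (by rw [map_add, hy, hB.alt, add_zero])
    rwa [map_add, huv, add_zero] at this
  · exact one y e hy

theorem vshift {y W R : V} {a : ZMod 2} (e : y + a • W = R) : y = R + a • W := by
  rw [← e, add_assoc, vadd_self, add_zero]

theorem three_q (hpol : ∀ u v, polar Q u v = B u v) {a b c : V} (ha : Q a = 1) (hb : Q b = 1) (hc : Q c = 1)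
    (hab : B a b = 0) (hac : B a c = 0) (hbc : B b c = 0) : Q (a + b + c) = 1 := by
  rw [q_add hpol, q_add hpol, map_add, LinearMap.add_apply, ha, hb, hc, hab, hac, hbc]
  decide

/-- A sum of three commuting members moves from one chart to the other. -/
theorem transfer (hB : CT B S) (hpol : ∀ u v, polar Q u v = B u v) (hS : S = {v | Q v = 1})
    {p q : G} (mp : LM D p B S) (mq : LM D q B S) (hqp : q ∈ adj D p) {f : Fin 3 → G}
    (hfp : ∀ i, f i ∈ adj D p) (hfq : ∀ i, f i ∈ adj D q)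
    (hperp : ∀ w ∈ adj D p, w ∈ adj D q → B (∑ i, mq.φ (f i)) (mq.φ w) = 0)
    (hcomm : ∀ i j, Commute (f i) (f j)) : ∑ i, mp.φ (f i) = mp.φ q := by
  have e1 : Q (∑ i, mp.φ (f i)) = 1 := by
    rw [Fin.sum_univ_three]
    exact three_q hpol (q_mem hS mp (hfp _)) (q_mem hS mp (hfp _)) (q_mem hS mp (hfp _))
      (mp.zero_of_commute (hfp _) (hfp _) (hcomm _ _)) (mp.zero_of_commute (hfp _) (hfp _) (hcomm _ _))
      (mp.zero_of_commute (hfp _) (hfp _) (hcomm _ _))
  refine (span_perp hB hpol hS mp hqp ?_ fun w hwp hwq => ?_).resolve_left fun e => ?_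
  · rw [map_sum, LinearMap.sum_apply]
    exact Finset.sum_eq_zero fun i _ => mp.zero_of_commute (hfp i) hqp (hfq i).2.2.symm
  · rw [← hperp w hwp hwq, map_sum, map_sum, LinearMap.sum_apply, LinearMap.sum_apply]
    refine Finset.sum_congr rfl fun i _ => z2_eq_of_iff ?_
    rw [← mp.comm _ (hfp i) w hwp, ← mq.comm _ (hfq i) w hwq]
  · rw [e, QuadraticMap.map_zero] at e1
    exact zero_ne_one e1

/-- Quadrics in dimension at least eight do not occur. -/
theorem no_quadric_large [Finite V] [Finite G] (h : Base D) (hconn : ConnectedComm D) (hB : CT B S)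
    (hpol : ∀ u v, polar Q u v = B u v) (hS : S = {v | Q v = 1}) (hdim : 8 ≤ Module.finrank (ZMod 2) V)
    (m : LM D x B S) (hx : x ∈ D) (hz : z ∈ nonc D x) : False := by
  obtain ⟨v, hv⟩ := h.common_nonempty hconn hx hz.1 hz.2
  obtain ⟨-, -, hzv⟩ := (mem_common_iff hz.2).1 hv
  have hv := hv.1
  obtain ⟨mv⟩ := m.exists_at h hx hv.1
  obtain ⟨hxv, hzv'⟩ := mem_adj_pair hx hz hv hzv
  set X := mv.φ x
  set Z := mv.φ z
  have hXZ : B X Z = 1 := mv.one_of_not_commute hxv hzv' hz.2
  have hZX : B Z X = 1 := by rw [hB.symm]; exact hXZ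
  obtain ⟨W, hWX, hWZ, hW1⟩ : ∃ W, B X W = 0 ∧ B Z W = 0 ∧ Q W = 1 := by
    obtain ⟨y1, hy1, hy1'⟩ := exists_perp_notMem B ![X, Z] ![(0 : V)] (by omega)
    have a1 : B X y1 = 0 := hy1 0
    have a2 : B Z y1 = 0 := hy1 1
    rcases z2_cases (Q y1) with e | e
    swap; · exact ⟨y1, a1, a2, e⟩
    have hne : y1 ≠ 0 := fun e' => hy1' ![0] (by simpa using e')
    obtain ⟨s, -, hs⟩ := hB.exists_link hne
    set y2 := s + B Z s • X + B X s • Z with hy2
    have b1 : B X y2 = 0 := by simp [y2, hB.alt, hXZ, CharTwo.add_self_eq_zero]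
    have b2 : B Z y2 = 0 := by simp [y2, hB.alt, hZX, CharTwo.add_self_eq_zero]
    have b3 : B y1 y2 = 1 := by
      simp only [y2, map_add, map_smul, hB.symm y1 X, a1, hB.symm y1 Z, a2, hB.symm y1 s, hs]
      simp
    rcases z2_cases (Q y2) with e' | e'
    · exact ⟨y1 + y2, by rw [map_add, a1, b1, add_zero], by rw [map_add, a2, b2, add_zero],
        by rw [q_add hpol, e, e', b3, zero_add, zero_add]⟩
    · exact ⟨y2, b1, b2, e'⟩
  obtain ⟨y1, hy1, hy1'⟩ := exists_perp_notMem B ![X, Z, W] ![W] (by omega)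
  obtain ⟨y2, hy2, hy2'⟩ := exists_perp_notMem B ![X, Z, W, y1] ![W, y1] (by omega)
  set s1 := y1 + (Q y1 + 1) • W
  set s2 := y2 + (Q y2 + 1) • W
  have norm : ∀ y, B W y = 0 → Q (y + (Q y + 1) • W) = 1 := by
    intro y hy
    rw [q_add hpol, QuadraticMap.map_smul, hW1, map_smul, hB.symm y W, hy, smul_eq_mul, smul_eq_mul]
    rcases z2_cases (Q y) with e | e <;> rw [e] <;> decide
  have h11 : B X y1 = 0 := hy1 0
  have h12 : B Z y1 = 0 := hy1 1
  have h13 : B W y1 = 0 := hy1 2
  have h21 : B X y2 = 0 := hy2 0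
  have h22 : B Z y2 = 0 := hy2 1
  have h23 : B W y2 = 0 := hy2 2
  have h24 : B y1 y2 = 0 := hy2 3
  let s : Fin 3 → V := ![s1, s2, s1 + s2 + W]
  have hs12 : B s1 s2 = 0 := by simp [s1, s2, h24, h23, hB.alt, hB.symm y1 W, h13]
  have hW1' : B s1 W = 0 := by rw [hB.symm]; simp [s1, h13, hB.alt]
  have hW2' : B s2 W = 0 := by rw [hB.symm]; simp [s2, h23, hB.alt]
  have sX : ∀ i, B X (s i) = 0 := by intro i; fin_cases i <;> simp [s, s1, s2, h11, h21, hWX]
  have sZ : ∀ i, B Z (s i) = 0 := by intro i; fin_cases i <;> simp [s, s1, s2, h12, h22, hWZ]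
  have sW : ∀ i, B (s i) W = 0 := by intro i; fin_cases i <;> simp [s, hW1', hW2', hB.alt]
  have sS : ∀ i, s i ∈ S := by
    intro i
    rw [hS]
    fin_cases i
    · exact norm y1 h13
    · exact norm y2 h23
    · exact three_q hpol (norm y1 h13) (norm y2 h23) hW1 hs12 hW1' hW2'
  have sne : ∀ i, s i ≠ W := by
    intro i
    fin_cases i
    · intro e
      refine hy1' ![1 + (Q y1 + 1)] ((vshift (show y1 + (Q y1 + 1) • W = W from e)).trans ?_)
      simp only [Fin.sum_univ_one, Matrix.cons_val_fin_one]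
      rw [add_smul 1 (Q y1 + 1) W, one_smul]
    · intro e
      refine hy2' ![1 + (Q y2 + 1), 0] ((vshift (show y2 + (Q y2 + 1) • W = W from e)).trans ?_)
      simp only [Fin.sum_univ_two, Matrix.cons_val_zero, Matrix.cons_val_one, zero_smul, add_zero]
      rw [add_smul 1 (Q y2 + 1) W, one_smul]
    · intro e
      refine hy2' ![(Q y1 + 1) + (Q y2 + 1), 1] ?_
      have e' : y2 + (Q y2 + 1) • W = y1 + (Q y1 + 1) • W :=
        (eq_of_vadd (add_eq_right.1 (show s1 + s2 + W = W from e))).symm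
      refine (vshift e').trans ?_
      simp only [Fin.sum_univ_two, Matrix.cons_val_zero, Matrix.cons_val_one, one_smul]
      rw [add_smul (Q y1 + 1) (Q y2 + 1) W]
      abel
  obtain ⟨w, hw, hwφ⟩ := mv.surj W (hS ▸ hW1)
  have mkx : ∀ y ∈ adj D v, B X (mv.φ y) = 0 → B Z (mv.φ y) = 0 → y ∈ adj D x ∧ Commute z y := by
    intro y hy e1 e2
    refine ⟨⟨hy.1, fun e => ?_, (mv.comm x hxv y hy).2 e1⟩, (mv.comm z hzv' y hy).2 e2⟩
    rw [e, hZX] at e2
    exact one_ne_zero e2
  obtain ⟨hwx, hzw⟩ := mkx w hw (hwφ ▸ hWX) (hwφ ▸ hWZ)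
  choose f hf hfφ using fun i => mv.surj (s i) (sS i)
  have hfxz : ∀ i, f i ∈ adj D x ∧ Commute z (f i) := fun i =>
    mkx _ (hf i) (by rw [hfφ]; exact sX i) (by rw [hfφ]; exact sZ i)
  have hfw : ∀ i, f i ∈ adj D w := fun i =>
    ⟨(hf i).1, fun e => sne i (by rw [← hfφ, e, hwφ]),
      ((mv.comm _ (hf i) w hw).2 (by rw [hfφ, hwφ]; exact sW i)).symm⟩
  have hcomm : ∀ i j, Commute (f i) (f j) := by
    intro i j
    rw [mv.comm _ (hf i) _ (hf j), hfφ, hfφ]
    fin_cases i <;> fin_cases j <;>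
      simp [s, hB.alt, hs12, hB.symm s2 s1, hW1', hW2', hB.symm W s1, hB.symm W s2]
  -- transfer from `v` to `x`
  have hsum' : ∑ i, mv.φ (f i) = mv.φ w := by
    simp only [hfφ, hwφ, Fin.sum_univ_three, s, Matrix.cons_val_zero, Matrix.cons_val_one, Matrix.cons_val_two,
      Matrix.tail_cons, Matrix.head_cons]
    exact vadd_cancel _ _
  have hu1 : ∑ i, m.φ (f i) + m.φ w = 0 := by
    refine (span_perp hB hpol hS m hv ?_ fun y hyx hyv => ?_).resolve_right fun e => ?_
    · rw [map_add, LinearMap.add_apply, m.zero_of_commute hwx hv hw.2.2.symm, add_zero, map_sum,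
        LinearMap.sum_apply]
      exact Finset.sum_eq_zero fun i _ => m.zero_of_commute (hfxz i).1 hv (hf i).2.2.symm
    · have e : B (∑ i, mv.φ (f i) + mv.φ w) (mv.φ y) = 0 := by rw [hsum', vadd_self, map_zero]; rfl
      rw [← e, map_add, map_add, LinearMap.add_apply, LinearMap.add_apply, map_sum, map_sum,
        LinearMap.sum_apply, LinearMap.sum_apply,
        z2_eq_of_iff (a := B (m.φ w) (m.φ y)) (b := B (mv.φ w) (mv.φ y))
          (by rw [← m.comm w hwx y hyx, ← mv.comm w hw y hyv])]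
      congr 1
      exact Finset.sum_congr rfl fun i _ => z2_eq_of_iff
        (by rw [← m.comm _ (hfxz i).1 y hyx, ← mv.comm _ (hf i) y hyv])
    · have e0 := congrArg Q e
      rw [q_mem hS m hv, q_add hpol, q_mem hS m hwx, Fin.sum_univ_three, three_q hpol (q_mem hS m (hfxz 0).1)
        (q_mem hS m (hfxz 1).1) (q_mem hS m (hfxz 2).1) (m.zero_of_commute (hfxz 0).1 (hfxz 1).1 (hcomm _ _))
        (m.zero_of_commute (hfxz 0).1 (hfxz 2).1 (hcomm _ _))
        (m.zero_of_commute (hfxz 1).1 (hfxz 2).1 (hcomm _ _))] at e0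
      simp only [map_add, LinearMap.add_apply, m.zero_of_commute (hfxz 0).1 hwx (hfw 0).2.2.symm,
        m.zero_of_commute (hfxz 1).1 hwx (hfw 1).2.2.symm, m.zero_of_commute (hfxz 2).1 hwx (hfw 2).2.2.symm]
        at e0
      revert e0; decide
  -- transfer from `x` to `w`
  obtain ⟨mw⟩ := m.exists_at h hx hw.1
  obtain ⟨hxw, hzw'⟩ := mem_adj_pair hx hz hwx hzw
  have hlast := transfer hB hpol hS mw m hxw hfw (fun i => (hfxz i).1) (fun y hyw hyx => by
    rw [eq_of_vadd hu1]
    exact m.zero_of_commute hwx hyx hyw.2.2) hcomm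
  have e := congrArg (B (mw.φ z)) hlast
  rw [map_sum, Finset.sum_eq_zero fun i _ => mw.zero_of_commute hzw' (hfw i) (hfxz i).2,
    mw.one_of_not_commute hzw' hxw fun c => hz.2 c.symm] at e
  exact zero_ne_one e

end LM

/-- Seven vectors with pairwise product one. -/
def seven : List (List (ZMod 2)) :=
  [[0,0,1,0,0,1], [0,1,0,0,1,1], [0,1,1,1,1,0], [1,0,0,1,1,1], [1,0,1,1,0,0], [1,1,0,1,0,1], [1,1,1,0,1,0],
    [0,0,0,0,0,0]]

/-- The eight points. -/
def P8 (i : Fin 8) : Fin 3 ⊕ Fin 3 → ZMod 2 :=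
  Sum.elim (fun j => (seven.getD i.val []).getD j.val 0) fun j => (seven.getD i.val []).getD (3 + j.val) 0

theorem p8_eq : ∀ v, quadFormPlus 3 (ZMod 2) v = 1 ↔ ∃ i j, i ≠ j ∧ v = P8 i + P8 j := by decide +kernel

theorem p8_share : ∀ i j k, i ≠ j → i ≠ k → j ≠ k →
    polar (quadFormPlus 3 (ZMod 2)) (P8 i + P8 j) (P8 i + P8 k) = 1 := by decide +kernel

set_option synthInstance.maxSize 1000 in
theorem p8_apart : ∀ i j k l, i ≠ j → i ≠ k → i ≠ l → j ≠ k → j ≠ l → k ≠ l →
    polar (quadFormPlus 3 (ZMod 2)) (P8 i + P8 j) (P8 k + P8 l) = 0 := by decide +kernel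

/-- A quadric in dimension six: pairs of eight points, or a chart over three elements. -/
theorem quadric_six [Finite V] [Finite G] (h : Base D) (hB : CT B S) {Q : QuadraticForm (ZMod 2) V}
    (hpol : ∀ u v, polar Q u v = B u v) (hS : S = {v | Q v = 1}) (hdim : Module.finrank (ZMod 2) V = 6)
    (m : LM D x B S) :
    (∃ p : Fin 8 → V, CT.Pairs B S p) ∨
      ∃ (Q : QuadraticForm (ZMod 3) (Fin 5 → ZMod 3)) (c : ZMod 3) (ψ : (Fin 5 → ZMod 3) → G),
        Chart3 (adj D x) Q c ψ := by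
  classical
  have hnd : Q.polarBilin.Nondegenerate :=
    ⟨fun x hx => hB.nondeg x fun y => by rw [← hpol]; exact hx y,
      fun y hy => hB.nondeg y fun x => by rw [hB.symm, ← hpol]; exact hy x⟩
  rcases Orth.classify_type Q hnd (m := 2) (by omega) Forms.aniso_one_one with ⟨-, e, he⟩ | ⟨-, e, he⟩
  · have hpol' : ∀ u v, B (e u) (e v) = polar (quadFormPlus 3 (ZMod 2)) u v := fun u v => by
      rw [← hpol]; simp only [polar, ← map_add, he, Forms.qfPlus_apply]
    refine .inl ⟨fun i => e (P8 i), ?_, fun i j k a b c => ?_, fun i j k l a b c d f g => ?_⟩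
    · ext y
      obtain ⟨u, rfl⟩ := e.surjective y
      simp only [hS, Set.mem_ofPred_eq, he, Forms.qfPlus_apply, ← map_add, e.injective.eq_iff]
      exact p8_eq u
    · rw [← map_add, ← map_add, hpol']; exact p8_share i j k a b c
    · rw [← map_add, ← map_add, hpol']; exact p8_apart i j k l a b c d f g
  · right
    have hpol' : ∀ u v, B (e u) (e v) = polar q6 u v := fun u v => by
      rw [← hpol]; simp only [polar, ← map_add, he, Forms.qfMinus_apply]
    have hmem : ∀ a, q6 a = 1 → e a ∈ S := fun a ha => (Set.ext_iff.1 hS _).2 (by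
      show Q (e a) = 1
      rw [he, Forms.qfMinus_apply]; exact ha)
    choose g hg hgφ using m.surj
    let p : ((Fin 2 ⊕ Fin 2) ⊕ Fin 2 → ZMod 2) → G := fun a => if ha : e a ∈ S then g (e a) ha else 1
    have hp : ∀ a, q6 a = 1 → p a ∈ adj D x ∧ m.φ (p a) = e a := fun a ha => by
      simp only [p, dif_pos (hmem a ha)]; exact ⟨hg _ _, hgφ _ _⟩
    refine chart3_of_minus_six (X := adj D x) p (fun a ha => (hp a ha).1) (fun y hy => ?_)
      (fun a b ha hb eq => ?_) (fun a b ha hb => ?_) fun a b ha hb => ?_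
    · obtain ⟨a, ha⟩ := e.surjective (m.φ y)
      have hQ : q6 a = 1 := by
        have := m.mem y hy
        show quadFormMinus 2 (ZMod 2) 1 1 a = 1
        rw [← Forms.qfMinus_apply, ← he, ha]
        exact (Set.ext_iff.1 hS _).1 (m.mem y hy)
      exact ⟨a, hQ, m.inj (hp a hQ).1 hy ((hp a hQ).2.trans ha)⟩
    · refine e.injective ?_
      rw [← (hp a ha).2, eq, (hp b hb).2]
    · rw [m.comm _ (hp a ha).1 _ (hp b hb).1, (hp a ha).2, (hp b hb).2, hpol']
    · by_cases hc : Commute (p a) (p b)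
      · have h0 : polar q6 a b = 0 := by
          rw [← hpol', ← (hp a ha).2, ← (hp b hb).2]; exact m.zero_of_commute (hp a ha).1 (hp b hb).1 hc
        rw [h0, zero_smul, add_zero, conj_conj_of_commute h.set (hp a ha).1.1 hc]
      · have h1 : polar q6 a b = 1 := by
          rw [← hpol', ← (hp a ha).2, ← (hp b hb).2]; exact m.one_of_not_commute (hp a ha).1 (hp b hb).1 hc
        rw [h1, one_smul]
        have hab := adj_conj_mem h (hp a ha).1 (hp b hb).1
        have hφ : m.φ (p a * p b * p a) = e (b + a) := by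
          rw [m.line _ (hp a ha).1 _ (hp b hb).1 hc, (hp a ha).2, (hp b hb).2, map_add, add_comm]
        have hQ : q6 (b + a) = 1 := by
          show quadFormMinus 2 (ZMod 2) 1 1 (b + a) = 1
          rw [← Forms.qfMinus_apply, ← he, ← hφ]
          exact (Set.ext_iff.1 hS _).1 (m.mem _ hab)
        exact m.inj hab (hp _ hQ).1 (hφ.trans (hp _ hQ).2.symm)

end Cfsg.Agent.FischerMain
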