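/-
The local group without planes: main result.

Main result: `noPlane_local`.
-/
import Cfsg.Agent.Lib.FischerMain.Excl.AllCase
import Cfsg.Agent.Lib.FischerMain.Excl.Quadric
import Cfsg.Agent.Lib.FischerMain.Excl.Pairs
import Cfsg.Agent.Lib.FischerMain.NoPlaneGroups

set_option autoImplicit false

namespace Cfsg.Agent.FischerMain

open Cfsg Cfsg.Agent.ThreeTransRank Cfsg.Agent.ThreeTrans

variable {G : Type*} [Group G] [Finite G] {D : Set G} {x : G}

/-- Three independent perpendicular vectors need dimension six. -/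
theorem six_le {V : Type*} [AddCommGroup V] [Module (ZMod 2) V] [Finite V]
    {B : LinearMap.BilinForm (ZMod 2) V} {S : Set V} (hB : CT B S) {w : Fin 3 → V}
    (hli : LinearIndependent (ZMod 2) w) (hperp : ∀ i j, B (w i) (w j) = 0) :
    6 ≤ Module.finrank (ZMod 2) V := by
  set W := Submodule.span (ZMod 2) (Set.range w)
  have h3 : Module.finrank (ZMod 2) W = 3 := by rw [finrank_span_eq_card hli, Fintype.card_fin]
  have hker : LinearMap.ker B = ⊥ := LinearMap.ker_eq_bot'.2 fun v hv => hB.nondeg v fun y => by rw [hv]; rfl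
  have hle : W ≤ B.orthogonal W := by
    refine Submodule.span_le.2 ?_
    rintro _ ⟨j, rfl⟩ v hv
    have hsub : W ≤ LinearMap.ker (B.flip (w j)) := by
      refine Submodule.span_le.2 ?_
      rintro _ ⟨i, rfl⟩
      exact hperp i j
    exact hsub hv
  have h1 := LinearMap.BilinForm.finrank_add_finrank_orthogonal' (B := B) W
  have h2 := Submodule.finrank_mono hle
  rw [hker, inf_bot_eq, finrank_bot, add_zero, h3] at h1
  omega

theorem pairs_reindex {V : Type*} [AddCommGroup V] [Module (ZMod 2) V] {B : LinearMap.BilinForm (ZMod 2) V}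
    {S : Set V} {ι κ : Type*} {p : ι → V} (hp : CT.Pairs B S p) (e : κ ≃ ι) : CT.Pairs B S (p ∘ e) := by
  refine ⟨hp.eq.trans (Set.ext fun v => ⟨?_, ?_⟩), fun i j k a b c => ?_, fun i j k l a b c d f g => ?_⟩
  · rintro ⟨i, j, hij, rfl⟩
    exact ⟨e.symm i, e.symm j, e.symm.injective.ne hij, by simp⟩
  · rintro ⟨i, j, hij, rfl⟩
    exact ⟨e i, e j, e.injective.ne hij, rfl⟩
  · exact hp.share _ _ _ (e.injective.ne a) (e.injective.ne b) (e.injective.ne c)
  · exact hp.apart _ _ _ _ (e.injective.ne a) (e.injective.ne b) (e.injective.ne c) (e.injective.ne d)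
      (e.injective.ne f) (e.injective.ne g)

/-- A local group without planes, in a group with a plane, is orthogonal of dimension five. -/
theorem noPlane_local (h : Central D) (hx : x ∈ D) (hp : NoPlane (locQSet D x)) (hpl : ¬ NoPlane D) :
    ∃ (Q : QuadraticForm (ZMod 3) (Fin 5 → ZMod 3)) (c : ZMod 3) (ψ : (Fin 5 → ZMod 3) → G),
      Chart3 (adj D x) Q c ψ := by
  classical
  obtain ⟨z, hz, a, ha, b, hb, hab, hza, hzb, hzc⟩ := h.exists_missed hx hp hpl
  obtain ⟨V, _, _, _, ⟨sm⟩⟩ := (h.base_local hx).exists_model hp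
  obtain ⟨hne, ⟨m⟩⟩ := h.exists_lm hx sm
  have hB := sm.ct
  have hpairs' : ∀ (n : ℕ) (p : Fin n → V), CT.Pairs sm.B (sm.vec '' locQSet D x) p → False := by
    intro n p hpr
    obtain ⟨hn, e, he⟩ := sm.equiv_perm (h.base_local hx) p hpr
    exact hpl (h.no_local_pairs hx hn e he)
  rcases hB.trichotomy hne with hall | ⟨Q, hpol, hQS, w, hli, hperp⟩ | ⟨ι, hι, p, hpr⟩
  · exact (m.not_all h.toBase h.conn hB (fun y hy => (Set.ext_iff.1 hall y).2 hy) hx hz ha hb hab hza hzb hzc).elim
  · obtain ⟨k, hk⟩ := Linear.even_finrank_of_alt_nondeg _ sm.B hB.alt hB.nondeg rfl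
    have h6 : 6 ≤ Module.finrank (ZMod 2) V := six_le hB hli hperp
    by_cases h8 : 8 ≤ Module.finrank (ZMod 2) V
    · exact (LM.no_quadric_large h.toBase h.conn hB hpol hQS h8 m hx hz).elim
    rcases quadric_six h.toBase hB hpol hQS (by omega) m with ⟨p, hpr⟩ | hchart
    · exact (hpairs' _ p hpr).elim
    · exact hchart
  · refine (hpairs' _ (p ∘ (Fintype.equivFin ι).symm) ?_).elim
    exact pairs_reindex hpr _

end Cfsg.Agent.FischerMain
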